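import Cfsg.Agent.Helper28.U62K3.Data
set_option autoImplicit false
set_option maxRecDepth 1000000
namespace Cfsg.Agent.Helper28.U62K3
open Cfsg.Agent.Helper28
def chunks0 : List Nat := [0x1a000048000078030000006080000220001000051c0000580000220000500102000040800001e0000500000400000480000680500000070500001600003000004c00006800001e0401000050c00001e0001000050a00001a00001200002800003c0000580500000061700001a0000440000580300000061200001a0000400000580300000060d00001a0001000041c00001600003400004c0300000051100001200002c00004c030000004070000160001000031600003c00001600000e0102000020700001200002400003c0300000041100001200000a00001400002000003c0500000040c0000120001000021600002800002c00000e0201000020800002400002c00000e0201000020600000a00001c00002000002c00000e0401000020500000e0001000020400001800002000000a0201000010d00000600000400001000002000000a0401000010b00000a0001000010a0000060000000000100300000010600000c0000100000060201000001200000800001000000602010000011000006000100000100000000000300000000002000000000010000000000020, 0xe80000f000003e02010000e070000e40000f000003e02010000e0600003a0000dc0000e00000f000003e04010000e0500003e00010000e040000d40000e000003a02010000d0d0000360000b40000d00000e000003a04010000d0c0000d80000c80000cc0000e000003a04010000d0b00003a00010000d0a0000cc0000d80000c401020000c060000c00000cc0000d403000000c1200002e00008c0000ac0000d000003604010000b1700003600010000b160000bc0000360000b801020000a110000320000a40000840000980000bc05000000c0c0000320000a00000bc03000000c0700002a00006c00009c0000bc00003204010000a1700003200010000a1600002a0000880000ac03000000a1200002e0000940000ac03000000b0d00002e0000900000ac03000000b0800002e0001000091c00009c00002e0000260102000071200002200006800009c0300000080d00002a00007000009c03000000a0800002a0001000071c00007800002a00001e0102000050d00002600001e0000540000680000880500000090b0000260000700000880300000090600006c000088000026020100007110000260001000071000002200001600003800004c000078050000008170000220000540000780300000081220,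 0xec0000f000003e02010000e0801]
theorem facts_ok0 : checkChunks tabs chunks0 0 65 = true := by decide +kernel
end Cfsg.Agent.Helper28.U62K3
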